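import Groth.Agent.ASp.ZeroDim
/-!
Zero-dimensional algebraic spaces over an arbitrary base all whose etale charts are locally of finite type over a field.
-/

set_option autoImplicit false
set_option backward.isDefEq.respectTransparency false
set_option backward.isDefEq.respectTransparency.types false

universe u

open CategoryTheory CategoryTheory.Limits AlgebraicGeometry Opposite TopologicalSpace

namespace Groth.Agent.FibreDiscLib

open _root_.AlgSp Groth.Agent.ASp

variable {S : Scheme.{u}} {k : Type u} [Field k] {X : Sp S}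
  (hp : ∀ ⦃U : Over S⦄ (a : (yon S).obj U ⟶ X), RepWith @Etale a →
    ∃ c : U.left ⟶ Spec (CommRingCat.of k), LocallyOfFiniteType c)
  {U : Over S} {a : (yon S).obj U ⟶ X} (ha : RepWith @Etale a)

include hp ha in
/-- The fibre of a chart over a point is open as soon as it is, equivalently, discrete. -/
theorem isOpen_singleton_ofPt_iff (u : ↥U.left) :
    IsOpen ({Points.ofPt a u} : Set (Points X)) ↔ IsOpen ({u} : Set ↥U.left) := by
  obtain ⟨cst, hcst⟩ := hp _ ha
  haveI := hcst
  haveI : IsLocallyNoetherian U.left := LocallyOfFiniteType.isLocallyNoetherian cst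
  haveI : JacobsonSpace ↥U.left := LocallyOfFiniteType.jacobsonSpace cst
  refine ⟨fun hx => ?_, fun hu => ?_⟩
  · let F : U.left.Opens := ⟨Points.ofPt a ⁻¹' {Points.ofPt a u}, hx.preimage (Points.continuous_ofPt a)⟩
    haveI : T1Space ↥F.toScheme := ⟨fun w => by
      obtain ⟨z, hz, hzc⟩ := nonempty_inter_closedPoints (Z := (F : Set ↥U.left)) ⟨u, rfl⟩ F.2.isLocallyClosed
      have hc : IsClosed ({w.1} : Set ↥U.left) :=
        isClosed_singleton_of_fibre ha ha hzc ((Set.mem_singleton_iff.1 w.2).trans (Set.mem_singleton_iff.1 hz).symm)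
      rw [show ({w} : Set ↥F.toScheme) = F.ι ⁻¹' {w.1} from Set.ext fun z => Subtype.ext_iff]
      exact hc.preimage F.ι.continuous⟩
    haveI := discreteTopology_of_t1 F.toScheme
    have := F.ι.isOpenEmbedding.isOpenMap _ (isOpen_discrete ({⟨u, rfl⟩} : Set ↥F.toScheme))
    rwa [Set.image_singleton] at this
  · have := isOpenMap_ofPt_of_etale ha _ hu
    rwa [Set.image_singleton] at this

include hp ha in
/-- Isolated points of a chart are those of local dimension zero. -/
theorem isOpen_singleton_iff_localDim (u : ↥U.left) :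
    IsOpen ({u} : Set ↥U.left) ↔ FlatMor.localDim ↥U.left u = 0 := by
  obtain ⟨cst, hcst⟩ := hp _ ha
  haveI := hcst
  haveI : IsLocallyNoetherian U.left := LocallyOfFiniteType.isLocallyNoetherian cst
  constructor
  · intro hu
    refine le_antisymm (iInf_le_of_le ⟨⟨{u}, hu⟩, rfl⟩ ?_) (le_iInf fun W => ?_)
    · haveI : DiscreteTopology ↥({u} : Set ↥U.left) := inferInstance
      exact topologicalKrullDim_zero_of_discreteTopology _
    · haveI : Nonempty ↥(W.1 : Set ↥U.left) := ⟨⟨u, W.2⟩⟩
      haveI : Nonempty (IrreducibleCloseds ↥(W.1 : Set ↥U.left)) :=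
        ⟨⟨closure {⟨u, W.2⟩}, isIrreducible_singleton.closure, isClosed_closure⟩⟩
      exact Order.krullDim_nonneg
  · intro h
    obtain ⟨⟨W₀, hW⟩, hlt⟩ := iInf_lt_iff.1 (show FlatMor.localDim ↥U.left u < 1 by rw [h]; exact zero_lt_one)
    let W : U.left.Opens := W₀
    have hle : topologicalKrullDim ↥(W : Set ↥U.left) ≤ 0 := le_zero_of_lt_one hlt
    haveI : T1Space ↥W.toScheme := t1Space_of_topologicalKrullDim_le_zero _ hle
    haveI := discreteTopology_of_t1 W.toScheme
    have := W.ι.isOpenEmbedding.isOpenMap _ (isOpen_discrete ({⟨u, hW⟩} : Set ↥W.toScheme))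
    rwa [Set.image_singleton] at this

include hp in
/-- Isolated points, through local dimensions of charts. -/
theorem isOpen_singleton_iff_hasAt (hX : IsAlgSpace X) (x : Points X) :
    IsOpen ({x} : Set (Points X)) ↔ HasAt (fun U u => FlatMor.localDim ↥U u = 0) X x := by
  constructor
  · intro hx
    obtain ⟨A, b, hb, hbs⟩ := hX.atlas
    obtain ⟨w, rfl⟩ := surjective_ofPt hbs x
    exact ⟨A, b, w, hb, rfl,
      (isOpen_singleton_iff_localDim hp hb w).1 ((isOpen_singleton_ofPt_iff hp hb w).1 hx)⟩
  · rintro ⟨V, b, v, hb, rfl, hv⟩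
    exact (isOpen_singleton_ofPt_iff hp hb v).2 ((isOpen_singleton_iff_localDim hp hb v).2 hv)

include hp in
/-- Isolated points are the closed points without proper generisation. -/
theorem isOpen_singleton_iff_closed_maximal (hX : IsAlgSpace X) (x : Points X) :
    IsOpen ({x} : Set (Points X)) ↔ (IsClosed ({x} : Set (Points X)) ∧ ∀ x', x' ⤳ x → x' = x) := by
  obtain ⟨A, b, hb, hbs⟩ := hX.atlas
  obtain ⟨cst, hcst⟩ := hp _ hb
  haveI := hcst
  haveI : IsLocallyNoetherian A.left := LocallyOfFiniteType.isLocallyNoetherian cst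
  constructor
  · intro hx
    refine ⟨?_, fun x' hx' => hx'.mem_open hx rfl⟩
    have hc : IsClosed (Points.ofPt b ⁻¹' {x}) := by
      rw [← isOpen_compl_iff, isOpen_iff_forall_mem_open]
      intro v hv
      obtain ⟨W, hW, hvW, -⟩ := exists_isAffineOpen_mem_and_subset (x := v) (U := (⊤ : A.left.Opens)) (by simp)
      haveI : NoetherianSpace ↥(W : Set ↥A.left) := by
        haveI : IsNoetherianRing ↥Γ(A.left, W) := IsLocallyNoetherian.component_noetherian ⟨W, hW⟩
        exact noetherianSpace_of_isAffineOpen W hW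
      haveI : DiscreteTopology ↥(Points.ofPt b ⁻¹' {x} ∩ (W : Set ↥A.left)) :=
        discreteTopology_iff_isOpen_singleton.2 fun w => by
          have hw : IsOpen ({w.1} : Set ↥A.left) :=
            (isOpen_singleton_ofPt_iff hp hb w.1).1 (by rw [Set.mem_singleton_iff.1 w.2.1]; exact hx)
          refine isOpen_induced_iff.2 ⟨{w.1}, hw, Set.ext fun z => ?_⟩
          simp [Subtype.ext_iff]
      have hfin : (Points.ofPt b ⁻¹' {x} ∩ (W : Set ↥A.left)).Finite := by
        have hsub : Points.ofPt b ⁻¹' {x} ∩ (W : Set ↥A.left) ⊆ W := Set.inter_subset_right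
        haveI : NoetherianSpace ↥(Points.ofPt b ⁻¹' {x} ∩ (W : Set ↥A.left)) :=
          (Topology.IsInducing.noetherianSpace (Topology.IsEmbedding.inclusion hsub).isInducing)
        exact Set.finite_coe_iff.1 (NoetherianSpace.finite (α := ↥(Points.ofPt b ⁻¹' {x} ∩ (W : Set ↥A.left))))
      have hfc : IsClosed (Points.ofPt b ⁻¹' {x} ∩ (W : Set ↥A.left)) := by
        rw [← Set.biUnion_of_singleton (Points.ofPt b ⁻¹' {x} ∩ (W : Set ↥A.left))]
        refine hfin.isClosed_biUnion fun w hw => ?_
        haveI : JacobsonSpace ↥A.left := LocallyOfFiniteType.jacobsonSpace cst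
        exact isClosed_singleton_of_isLocallyClosed_singleton
          ((isOpen_singleton_ofPt_iff hp hb w).1 (by rw [Set.mem_singleton_iff.1 hw.1]; exact hx)).isLocallyClosed
      exact ⟨_, fun q hq hq' => hq.2 ⟨hq', hq.1⟩, W.isOpen.inter hfc.isOpen_compl, hvW, fun h => hv h.1⟩
    rw [← isOpen_compl_iff]
    have := isOpenMap_ofPt_of_etale hb _ hc.isOpen_compl
    rwa [← Set.preimage_compl, Set.image_preimage_eq _ (surjective_ofPt hbs)] at this
  · rintro ⟨hc, hmax⟩
    have hF : IsOpen (Points.ofPt b ⁻¹' {x}) := by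
      rw [isOpen_iff_forall_mem_open]
      intro v hv
      obtain ⟨W, hW, hvW, -⟩ := exists_isAffineOpen_mem_and_subset (x := v) (U := (⊤ : A.left.Opens)) (by simp)
      haveI : IsNoetherianRing ↥Γ(A.left, W) := IsLocallyNoetherian.component_noetherian ⟨W, hW⟩
      haveI : NoetherianSpace ↥W.toScheme := noetherianSpace_of_isAffineOpen W hW
      let F : Set ↥W.toScheme := W.ι ⁻¹' (Points.ofPt b ⁻¹' {x})
      have hFc : IsClosed F := (hc.preimage (Points.continuous_ofPt b)).preimage W.ι.continuous
      let G : Set ↥W.toScheme := ⋃ C ∈ {C ∈ irreducibleComponents ↥W.toScheme | ¬ C ⊆ F}, C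
      have hG : IsClosed G :=
        ((NoetherianSpace.finite_irreducibleComponents).subset fun C hC => hC.1).isClosed_biUnion
          fun C hC => isClosed_of_mem_irreducibleComponents C hC.1
      refine ⟨W.ι '' Gᶜ, ?_, W.ι.isOpenEmbedding.isOpenMap _ hG.isOpen_compl, ⟨⟨v, hvW⟩, ?_, rfl⟩⟩
      · rintro _ ⟨w, hw, rfl⟩
        by_contra hwF
        exact hw (Set.mem_biUnion ⟨irreducibleComponent_mem_irreducibleComponents w,
          fun hs => hwF (hs mem_irreducibleComponent)⟩ mem_irreducibleComponent)
      · intro hvG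
        obtain ⟨C, ⟨hC, hCF⟩, hvC⟩ := Set.mem_iUnion₂.1 hvG
        obtain ⟨g, hg⟩ := QuasiSober.sober hC.1 (isClosed_of_mem_irreducibleComponents C hC)
        refine hCF ?_
        rw [← hg.def, hFc.closure_subset_iff, Set.singleton_subset_iff]
        show Points.ofPt b (W.ι g) = x
        refine hmax _ ?_
        have := (hg.specializes hvC).map W.ι.continuous
        have h2 := this.map (Points.continuous_ofPt b)
        rwa [show Points.ofPt b (W.ι ⟨v, hvW⟩) = x from hv] at h2
    have := isOpenMap_ofPt_of_etale hb _ hF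
    rwa [Set.image_preimage_eq _ (surjective_ofPt hbs)] at this

include hp in
/-- In a decent space, points with a zero-dimensional neighbourhood are isolated. -/
theorem isOpen_singleton_of_dim_zero (hX : IsAlgSpace X) (hdec : IsDecent X) (x : Points X) (O : Set (Points X))
    (hO : IsOpen O) (hxO : x ∈ O) (hd : topologicalKrullDim ↥O ≤ 0) : IsOpen ({x} : Set (Points X)) := by
  haveI := t0Space_of_isDecent hX hdec
  haveI := t1Space_of_topologicalKrullDim_le_zero _ hd
  obtain ⟨A, b, hb, hbs⟩ := hX.atlas
  obtain ⟨cst, hcst⟩ := hp _ hb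
  haveI := hcst
  haveI : IsLocallyNoetherian A.left := LocallyOfFiniteType.isLocallyNoetherian cst
  obtain ⟨w, rfl⟩ := surjective_ofPt hbs x
  let V : A.left.Opens := ⟨Points.ofPt b ⁻¹' O, hO.preimage (Points.continuous_ofPt b)⟩
  haveI : T1Space ↥V.toScheme := t1Space_iff_specializes_imp_eq.2 fun y z hyz => by
    let θ : ↥V.toScheme → ↥O := fun s => ⟨Points.ofPt b (V.ι s), s.2⟩
    have hθ : Continuous θ := ((Points.continuous_ofPt b).comp V.ι.continuous).subtype_mk _
    have e := congrArg Subtype.val (hyz.map hθ).eq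
    exact (Subtype.ext (eq_of_specializes hdec hb e.symm (hyz.map V.ι.continuous))).symm
  haveI := discreteTopology_of_t1 V.toScheme
  have := V.ι.isOpenEmbedding.isOpenMap _ (isOpen_discrete ({⟨w, hxO⟩} : Set ↥V.toScheme))
  rw [Set.image_singleton] at this
  exact (isOpen_singleton_ofPt_iff hp hb w).2 this

include hp in
/-- Local dimension zero of the space of points, for decent spaces. -/
theorem localDim_points_eq_zero_iff (hX : IsAlgSpace X) (hdec : IsDecent X) (x : Points X) :
    FlatMor.localDim (Points X) x = 0 ↔ IsOpen ({x} : Set (Points X)) := by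
  constructor
  · intro h
    obtain ⟨⟨W, hW⟩, hlt⟩ := iInf_lt_iff.1 (show FlatMor.localDim (Points X) x < 1 by rw [h]; exact zero_lt_one)
    exact isOpen_singleton_of_dim_zero hp hX hdec x W W.2 hW (le_zero_of_lt_one hlt)
  · intro hx
    refine le_antisymm (iInf_le_of_le ⟨⟨{x}, hx⟩, rfl⟩
      (haveI : DiscreteTopology ↥({x} : Set (Points X)) := inferInstance
       topologicalKrullDim_zero_of_discreteTopology ↥({x} : Set (Points X))))
      (le_iInf fun W => ?_)
    haveI : Nonempty (IrreducibleCloseds ↥(W.1 : Set (Points X))) :=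
      ⟨⟨closure {⟨x, W.2⟩}, isIrreducible_singleton.closure, isClosed_closure⟩⟩
    exact Order.krullDim_nonneg

include hp in
/-- Discreteness of the space of points is dimension zero. -/
theorem discreteTopology_iff_dim [Nonempty (Points X)] (hX : IsAlgSpace X) :
    DiscreteTopology (Points X) ↔ AlgSp.dim X = 0 := by
  obtain ⟨A, b, hb, hbs⟩ := hX.atlas
  obtain ⟨cst, hcst⟩ := hp _ hb
  haveI := hcst
  haveI : IsLocallyNoetherian A.left := LocallyOfFiniteType.isLocallyNoetherian cst
  constructor
  · intro hd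
    have hdisc : ∀ (U : Over S) (a : (yon S).obj U ⟶ X),
        RepWith @Etale a → DiscreteTopology ↥U.left := fun U a ha => by
      obtain ⟨cst, hcst⟩ := hp _ ha
      haveI := hcst
      exact discreteTopology_of_chart ha cst
    refine le_antisymm (iSup_le fun U => iSup_le fun a => iSup_le fun ha =>
      haveI := hdisc U a ha
      topologicalKrullDim_zero_of_discreteTopology _) ?_
    refine le_iSup_of_le A (le_iSup_of_le b (le_iSup_of_le hb ?_))
    haveI := hdisc A b hb
    obtain ⟨w, -⟩ := surjective_ofPt hbs (Classical.arbitrary (Points X))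
    haveI : Nonempty ↥A.left := ⟨w⟩
    exact (topologicalKrullDim_eq_zero_of_discrete _).ge
  · intro hd
    haveI : T1Space ↥A.left := t1Space_of_topologicalKrullDim_le_zero _
      (hd ▸ le_iSup_of_le A (le_iSup_of_le b (le_iSup_of_le hb le_rfl)))
    haveI := discreteTopology_of_t1 A.left
    refine discreteTopology_iff_isOpen_singleton.2 fun x => ?_
    obtain ⟨w, rfl⟩ := surjective_ofPt hbs x
    exact (isOpen_singleton_ofPt_iff hp hb w).2 (isOpen_discrete _)

end Groth.Agent.FibreDiscLib
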