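import Groth.Agent.FibreDiscLib.Charts
import Groth.Agent.ASp.LqfLocus
import Groth.Agent.ASp.LqfField
import Groth.Agent.ASp.QcMonoPoint
import Groth.Agent.ASp.DecentPt
import Groth.Agent.ASp.DecentTop
/-!
Fibres of morphisms of algebraic spaces locally of finite type: discreteness against quasi-finiteness.
-/

set_option autoImplicit false
set_option backward.isDefEq.respectTransparency false
set_option backward.isDefEq.respectTransparency.types false

universe u

open CategoryTheory CategoryTheory.Limits AlgebraicGeometry Opposite TopologicalSpace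

namespace Groth.Agent.FibreDiscLib

open _root_.AlgSp Groth.Agent.ASp

/-- Over a field, quasi-finiteness at a point means that the point is isolated. -/
theorem isOpen_singleton_iff_quasiFiniteAt {k : Type u} [Field k] {U : Scheme.{u}}
    (c : U ⟶ Spec (CommRingCat.of k)) [LocallyOfFiniteType c] (w : ↥U) :
    IsOpen ({w} : Set ↥U) ↔ c.QuasiFiniteAt w := by
  constructor
  · intro hw
    let W : U.Opens := ⟨{w}, hw⟩
    haveI : DiscreteTopology ↥W.toScheme := inferInstanceAs (DiscreteTopology ↥({w} : Set ↥U))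
    haveI : LocallyQuasiFinite (W.ι ≫ c) :=
      locallyQuasiFinite_iff_isDiscrete_preimage_singleton.2 fun _ => ⟨inferInstance⟩
    let w' : ↥W.toScheme := ⟨w, Set.mem_singleton w⟩
    have h1 := Scheme.Hom.quasiFiniteAt (W.ι ≫ c) w'
    rw [Scheme.Hom.quasiFiniteAt_comp_iff_of_isOpenImmersion] at h1
    exact h1
  · intro hq
    let W : U.Opens := ⟨_, c.isOpen_quasiFiniteAt⟩
    haveI : LocallyQuasiFinite (W.ι ≫ c) := locallyQuasiFinite_of_forall_quasiFiniteAt _ fun z =>
      Scheme.Hom.quasiFiniteAt_comp_iff_of_isOpenImmersion.2 z.2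
    haveI : DiscreteTopology ↥W.toScheme := discreteTopology_of_lqf_field (k := k) (W.ι ≫ c)
    have := W.ι.isOpenEmbedding.isOpenMap _ (isOpen_discrete ({⟨w, hq⟩} : Set ↥W.toScheme))
    rwa [Set.image_singleton] at this


variable {S : Scheme.{u}} {X Y : Space S} {f : X ⟶ Y} (hf : LocP @LocallyOfFiniteType f.hom)
  {r : FieldPt Y.obj} {Xk : Space S} {fst : Xk ⟶ X} {snd : Xk.obj ⟶ (yon S).obj r.pt}
  (hsq : IsPullback fst.hom snd f.hom r.toHom)

include hf hsq in
theorem exists_chart_field ⦃U : Over S⦄ (a : (yon S).obj U ⟶ Xk.obj) (ha : RepWith @Etale a) :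
    ∃ c : U.left ⟶ Spec (CommRingCat.of r.K), LocallyOfFiniteType c := by
  obtain ⟨c, hc⟩ := (yon S).map_surjective (a ≫ snd)
  exact ⟨c.left, locP_of_isPullback hsq.flip X.property Y.property (IsAlgSpace.yon_obj r.pt) hf a (𝟙 _) c ha
    (repWith_id _ _) (by rw [Category.comp_id]; exact hc.symm)⟩

include hf hsq in
set_option maxHeartbeats 800000 in
/-- Isolated points of the fibre are the points where the morphism is quasi-finite. -/
theorem isOpen_singleton_iff_qf (xt : Points Xk.obj) :
    IsOpen ({xt} : Set (Points Xk.obj)) ↔ IsQfNbhd f.hom (Points.map fst.hom xt) := by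
  let Y' : Space S := ⟨(yon S).obj r.pt, IsAlgSpace.yon_obj _⟩
  let g : Y' ⟶ Y := ObjectProperty.homMk r.toHom
  let f' : Xk ⟶ Y' := ObjectProperty.homMk snd
  rw [← isQfNbhd_baseChange_iff hf (p := fst) (f' := f') (g := g) hsq xt]
  obtain ⟨A, a, ha, has⟩ := Xk.property.atlas
  obtain ⟨w, rfl⟩ := surjective_ofPt has xt
  obtain ⟨c, hc⟩ := (yon S).map_surjective (a ≫ snd)
  have hf' : LocP @LocallyOfFiniteType f'.hom :=
    locP_of_isPullback hsq.flip X.property Y.property (IsAlgSpace.yon_obj r.pt) hf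
  haveI : LocallyOfFiniteType c.left :=
    hf' a (𝟙 _) c ha (repWith_id _ _) (by rw [Category.comp_id]; exact hc.symm)
  have hb : RepWith @Etale (𝟙 Y'.obj) := repWith_id @Etale r.pt
  rw [isQfNbhd_iff_of_chart hf' ha hb (show a ≫ f'.hom = (yon S).map c ≫ 𝟙 _ by rw [Category.comp_id]; exact hc.symm) w,
    isOpen_singleton_ofPt_iff (exists_chart_field hf hsq) ha w]
  exact isOpen_singleton_iff_quasiFiniteAt (k := r.K) c.left w

/-- Every point of the fibre comes from the base change. -/
theorem exists_point_over {r' : FieldPt Y.obj} {P : Space S} {p₁ : P ⟶ X} {p₂ : P.obj ⟶ (yon S).obj r'.pt}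
    (sq : IsPullback p₁.hom p₂ f.hom r'.toHom) {x : Points X.obj} (hx : Points.map f.hom x = Points.mk r') :
    ∃ z : Points P.obj, Points.map p₁.hom z = x := by
  obtain ⟨z, hz, -⟩ := points_exists_of_isPullback sq x
    (Points.ofScheme r'.pt (IsLocalRing.closedPoint r'.K)) (by
      rw [hx, ← Points.ofPt_eq_map_ofScheme, Points.ofPt_toHom])
  exact ⟨z, hz⟩

include hsq in
theorem mem_fibre (xt : Points Xk.obj) : Points.map f.hom (Points.map fst.hom xt) = Points.mk r := by
  obtain ⟨z, hz⟩ := (Points.schemeHomeo r.pt).surjective (Points.map snd xt)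
  haveI : Subsingleton ↥r.pt.left := inferInstanceAs (Subsingleton ↥(Spec (CommRingCat.of r.K)))
  rw [← Points.map_comp, hsq.w, Points.map_comp, ← hz, Subsingleton.elim z (IsLocalRing.closedPoint r.K)]
  exact (Points.ofPt_eq_map_ofScheme r.toHom _).symm.trans (Points.ofPt_toHom r _)

include hf hsq in
theorem discrete_iff_forall_qf :
    DiscreteTopology (Points Xk.obj) ↔
      ∀ x : Points X.obj, Points.map f.hom x = Points.mk r → IsQfNbhd f.hom x := by
  refine ⟨fun h x hx => ?_, fun h => discreteTopology_iff_isOpen_singleton.2 fun z =>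
    (isOpen_singleton_iff_qf hf hsq z).2 (h _ (mem_fibre hsq z))⟩
  obtain ⟨z, rfl⟩ := exists_point_over hsq hx
  exact (isOpen_singleton_iff_qf hf hsq z).1 (isOpen_discrete _)

/-- A decent space with finitely many points locally of finite type over a field is discrete. -/
theorem discreteTopology_of_finite {k : Type u} [Field k] {P : Sp S} (hP : IsAlgSpace P)
    (hp : ∀ ⦃U : Over S⦄ (a : (yon S).obj U ⟶ P), RepWith @Etale a →
      ∃ c : U.left ⟶ Spec (CommRingCat.of k), LocallyOfFiniteType c)
    (hdec : IsDecent P) [Finite (Points P)] : DiscreteTopology (Points P) := by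
  obtain ⟨A, b, hb, hbs⟩ := hP.atlas
  obtain ⟨c, hc⟩ := hp b hb
  haveI := hc
  refine discreteTopology_iff_isOpen_singleton.2 fun x => ?_
  obtain ⟨w, rfl⟩ := surjective_ofPt hbs x
  obtain ⟨W, hW, hwW, -⟩ := exists_isAffineOpen_mem_and_subset (x := w) (U := (⊤ : A.left.Opens)) (by simp)
  haveI : JacobsonSpace ↥A.left := LocallyOfFiniteType.jacobsonSpace c
  haveI : JacobsonSpace ↥W.toScheme := JacobsonSpace.of_isOpenEmbedding W.ι.isOpenEmbedding
  haveI : Finite ↥W.toScheme := by
    have hfin : (W : Set ↥A.left).Finite :=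
      ((Set.toFinite (Set.univ : Set (Points P))).biUnion fun y _ => finite_fibre_inter hdec hb y hW.isCompact).subset
        fun v hv => Set.mem_biUnion (Set.mem_univ (Points.ofPt b v)) ⟨rfl, hv⟩
    exact hfin.to_subtype
  have := W.ι.isOpenEmbedding.isOpenMap _ (isOpen_discrete ({⟨w, hwW⟩} : Set ↥W.toScheme))
  rw [Set.image_singleton] at this
  exact (isOpen_singleton_ofPt_iff hp hb w).2 this

/-- A monomorphic quasi-compact representative with its fibre product. -/
theorem exists_mono_fibre (hY : IsDecent Y.obj) (f : X ⟶ Y) (r : FieldPt Y.obj) :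
    ∃ (r₀ : FieldPt Y.obj) (P : Space S) (p₁ : P ⟶ X) (p₂ : P.obj ⟶ (yon S).obj r₀.pt),
      Points.mk r₀ = Points.mk r ∧ IsPullback p₁.hom p₂ f.hom r₀.toHom ∧
      Topology.IsEmbedding (Points.map p₁.hom) ∧
      Set.range (Points.map p₁.hom) = Points.map f.hom ⁻¹' {Points.mk r} ∧
      (IsDecent X.obj → IsDecent P.obj) := by
  obtain ⟨r₀, h₀, hm, hq⟩ := hY (Points.mk r)
  haveI := hm
  have sq := IsPullback.of_hasPullback f.hom r₀.toHom
  have hPa : IsAlgSpace (pullback f.hom r₀.toHom) :=
    isAlgSpace_pullback Y.property.diag X.property (IsAlgSpace.yon_obj _) _ _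
  obtain ⟨hemb, hran⟩ := isEmbedding_fibre_mono_qc X.property Y.property f.hom r₀ hq hPa sq
  refine ⟨r₀, ⟨_, hPa⟩, ObjectProperty.homMk (pullback.fst _ _), pullback.snd _ _, h₀, sq, hemb,
    by rw [← h₀]; exact hran, fun hX x' => ?_⟩
  obtain ⟨p, hp, hpm, hpq⟩ := hX (Points.map (pullback.fst f.hom r₀.toHom) x')
  haveI := hpm
  have hxy : Points.map f.hom (Points.map (pullback.fst f.hom r₀.toHom) x') = Points.mk r₀ :=
    Set.mem_singleton_iff.1 (hran.subset ⟨x', rfl⟩)
  obtain ⟨c, hc⟩ := factor_of_mono Y.property r₀ (p.map f.hom) (by rw [← Points.map_mk, hp, hxy])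
  rw [FieldPt.toHom_map] at hc
  let l := sq.lift p.toHom ((yon S).map c) hc.symm
  have hl : l ≫ pullback.fst f.hom r₀.toHom = p.toHom := sq.lift_fst _ _ _
  haveI : Mono (pullback.fst f.hom r₀.toHom) := inferInstance
  haveI : Mono l := by
    haveI : Mono (l ≫ pullback.fst f.hom r₀.toHom) := by rw [hl]; infer_instance
    exact mono_of_mono l (pullback.fst f.hom r₀.toHom)
  let q : FieldPt (pullback f.hom r₀.toHom) := ⟨p.K, p.str, (J S).uliftYonedaEquiv.{u+1} l⟩
  have hql : q.toHom = l := Equiv.symm_apply_apply _ _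
  refine ⟨q, injective_points_map_of_mono (pullback.fst f.hom r₀.toHom) ?_, by rw [hql]; infer_instance, ?_⟩
  · rw [← hp, ← Points.ofPt_toHom q, ← Points.ofPt_toHom p, Points.map_ofPt, hql, hl]
    exact IsLocalRing.closedPoint p.K
  · rw [hql]
    have sql : IsPullback (𝟙 ((yon S).obj p.pt)) l p.toHom (pullback.fst f.hom r₀.toHom) :=
      IsPullback.of_isLimit' ⟨by rw [Category.id_comp]; exact hl.symm⟩ (PullbackCone.IsLimit.mk _ (fun s => s.fst)
        (fun s => Category.comp_id _)
        (fun s => (cancel_mono (pullback.fst f.hom r₀.toHom)).1 (by rw [Category.assoc, hl]; exact s.condition))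
        (fun s n h _ => by simpa using h))
    exact repWith_of_isPullback sql hpq

end Groth.Agent.FibreDiscLib
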